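import Cfsg.Agent.H58.Fischer.Params

/-!
An element of prime power order centralising a member and fixing none of its partners fixes a set of
pairwise non-commuting members, whose size is a power of three.
-/

set_option autoImplicit false
set_option linter.unusedSectionVars false

namespace H58.Fischer

open Cfsg H99
open H5.TT.Fac (Down qD im)

variable {G : Type*} [Group G] {D : Set G}

/-- The members commuting with `g`. -/
def fixD (D : Set G) (g : G) : Set G := {x | x ∈ D ∧ Commute g x}

/-- Conjugation by a fixed member keeps the fixed set. -/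
theorem fixD_conj (hcl : IsThreeTranspositionClass D) {g x y : G} (hx : x ∈ fixD D g)
    (hy : y ∈ fixD D g) : x * y * x ∈ fixD D g := by
  refine ⟨?_, (hx.2.mul_right hy.2).mul_right hx.2⟩
  simpa [tt_inv hcl.1 hx.1] using class_conj_mem hcl x hy.1

/-- The fixed members are pairwise non-commuting. -/
theorem fixD_pairwise (hcl : IsThreeTranspositionClass D) {d g : G} (hd : d ∈ D)
    (hgd : Commute g d) (hfree : ∀ y ∈ perp D d, ¬ Commute g y) :
    ∀ x ∈ fixD D g, ∀ y ∈ fixD D g, Commute x y → y = x := by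
  have hdF : d ∈ fixD D g := ⟨hd, hgd⟩
  have hd1 : ∀ y ∈ fixD D g, Commute d y → y = d := fun y hy hc =>
    by_contra fun hne => hfree y ⟨hy.1, hne, hc⟩ hy.2
  -- being isolated is invariant under conjugation by fixed members
  have hmove : ∀ u ∈ fixD D g, ∀ z, (∀ y ∈ fixD D g, Commute z y → y = z) →
      ∀ y ∈ fixD D g, Commute (u * z * u) y → y = u * z * u := by
    intro u hu z hz y hy hc
    have hui := tt_inv hcl.1 hu.1
    have huu := tt_mul_self hcl.1 hu.1
    have h1 := hz _ (fixD_conj hcl hu hy) (by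
      have := (conj_commute_iff u (u * z * u) y).2 hc
      rwa [hui, show u * (u * z * u) * u = u * u * z * (u * u) by group, huu, one_mul,
        mul_one] at this)
    calc y = u * u * y * (u * u) := by rw [huu, one_mul, mul_one]
      _ = u * (u * y * u) * u := by group
      _ = u * z * u := by rw [h1]
  intro x hx
  by_cases hc : Commute d x
  · rw [hd1 x hx hc]; exact hd1
  · have h2 := hmove d hdF _ (hmove x hx d hd1)
    have hxd : d * (x * d * x) * d = x := by
      rw [← tt_braid hcl.1 hd hx.1 hc, show d * (d * x * d) * d = d * d * x * (d * d) by group,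
        tt_mul_self hcl.1 hd, one_mul, mul_one]
    rwa [hxd] at h2

variable [Finite G]

/-- A set of members with all products of order dividing three, closed under conjugation by its
members, has a power of three members. -/
theorem ncard_eq_pow {F : Set G} {d : G} (hdF : d ∈ F) (hinv : ∀ x ∈ F, x * x = 1)
    (hconj : ∀ x ∈ F, ∀ y ∈ F, x * y * x ∈ F) (h3 : ∀ x ∈ F, ∀ y ∈ F, (x * y) ^ 3 = 1) :
    ∃ a, F.ncard = 3 ^ a := by
  classical
  haveI : Fact (Nat.Prime 3) := ⟨Nat.prime_three⟩
  set H : Subgroup G := Subgroup.closure F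
  set F' : Set ↥H := {x | (x : G) ∈ F}
  have hFH : ∀ x ∈ F, x ∈ H := fun x hx => Subgroup.subset_closure hx
  have hnorm : ∀ w ∈ H, ∀ y ∈ F, w * y * w⁻¹ ∈ F := by
    intro w hw
    induction hw using Subgroup.closure_induction'' with
    | mem x hx =>
      intro y hy
      rw [inv_eq_of_mul_eq_one_left (hinv x hx)]
      exact hconj x hx y hy
    | inv_mem x hx =>
      intro y hy
      rw [inv_inv, inv_eq_of_mul_eq_one_left (hinv x hx)]
      exact hconj x hx y hy
    | one => intro y hy; simpa using hy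
    | mul a b _ _ ha hb =>
      intro y hy
      rw [show a * b * y * (a * b)⁻¹ = a * (b * y * b⁻¹) * a⁻¹ by group]
      exact ha _ (hb y hy)
  have hmem : ∀ (x : G) (hx : x ∈ F),
      (⟨d, hFH d hdF⟩ : ↥H) * ⟨x, hFH x hx⟩ ∈ pCore 3 ↥H := fun x hx =>
    width_one_mem_pCore (D := F') (fun a ha => Subtype.ext (hinv _ ha))
      (fun w a ha => hnorm _ w.2 _ ha) (fun a ha b hb => Subtype.ext (by
        simpa using h3 _ ha _ hb)) (show (⟨d, hFH d hdF⟩ : ↥H) ∈ F' from hdF)
      (show (⟨x, hFH x hx⟩ : ↥H) ∈ F' from hx)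
  have hP : IsPGroup 3 ↥((pCore 3 ↥H).map H.subtype) :=
    (H1.isPGroup_pCore 3 ↥H).map H.subtype
  set P : Subgroup G := (pCore 3 ↥H).map H.subtype
  letI : MulAction ↥P G := MulAction.compHom G (MulAut.conj.comp P.subtype)
  obtain ⟨a, ha⟩ := hP.card_orbit (α := G) d
  refine ⟨a, ?_⟩
  rw [← ha, Nat.card_coe_set_eq]
  congr 1
  ext x
  constructor
  · intro hx
    have hbr := (invol_cube_eq_one_iff (hinv d hdF) (hinv x hx)).1 (h3 d hdF x hx)
    refine ⟨⟨d * x, Subgroup.mem_map.2 ⟨_, hmem x hx, rfl⟩⟩, ?_⟩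
    show d * x * d * (d * x)⁻¹ = x
    rw [mul_inv_rev, inv_eq_of_mul_eq_one_left (hinv x hx), inv_eq_of_mul_eq_one_left (hinv d hdF),
      show d * x * d * (x * d) = d * (x * d * x) * d by group, ← hbr,
      show d * (d * x * d) * d = d * d * x * (d * d) by group, hinv d hdF, one_mul, mul_one]
  · rintro ⟨⟨q, hq⟩, rfl⟩
    obtain ⟨w, -, rfl⟩ := Subgroup.mem_map.1 hq
    exact hnorm _ w.2 _ hdF

/-- The number of members is congruent to the number of fixed members. -/
theorem ncard_modEq (hcl : IsThreeTranspositionClass D) {p a : ℕ} (hp : p.Prime) {g : G}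
    (hg : g ^ p ^ a = 1) : (fixD D g).ncard ≡ D.ncard [MOD p] := by
  classical
  haveI : Fact p.Prime := ⟨hp⟩
  letI := Fintype.ofFinite D
  let σ : Equiv.Perm D :=
    Equiv.Perm.subtypePerm (p := fun x => x ∈ D) (MulAut.conj g).toEquiv fun x => by
      refine ⟨fun hx => ?_, fun hx => class_conj_mem hcl g hx⟩
      have := class_conj_mem hcl g⁻¹ hx
      simpa [mul_assoc] using this
  have hpow : ∀ i : ℕ, ∀ x : D, (((σ ^ i) x : D) : G) = g ^ i * x * (g ^ i)⁻¹ := by
    intro i
    induction i with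
    | zero => intro x; simp
    | succ i ih =>
      intro x
      rw [pow_succ', Equiv.Perm.mul_apply]
      show g * ((σ ^ i) x : G) * g⁻¹ = _
      rw [ih, pow_succ']
      group
  have hσ : σ ^ p ^ a = 1 := by
    ext x
    rw [hpow, hg]
    simp
  have h1 := Equiv.Perm.card_compl_support_modEq hσ
  have h2 : σ.supportᶜ.card = (fixD D g).ncard := by
    rw [← Set.ncard_coe_finset, ← Set.ncard_image_of_injective _ Subtype.val_injective]
    congr 1
    ext x
    simp only [Set.mem_image, Finset.coe_compl, Set.mem_compl_iff, Finset.mem_coe,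
      Equiv.Perm.mem_support, not_not, Subtype.exists, exists_and_right, exists_eq_right, fixD,
      Set.mem_ofPred_eq]
    constructor
    · rintro ⟨hx, he⟩
      have : g * x * g⁻¹ = x := congrArg Subtype.val he
      exact ⟨hx, mul_inv_eq_iff_eq_mul.1 this⟩
    · rintro ⟨hx, he⟩
      exact ⟨hx, Subtype.ext (show g * x * g⁻¹ = x by rw [he.eq, mul_inv_cancel_right])⟩
  rwa [h2, ← Nat.card_eq_fintype_card, Nat.card_coe_set_eq] at h1

/-- The obstruction: the number of members is a power of three modulo `p`. -/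
theorem exists_pow_modEq {d : G} (hcl : IsThreeTranspositionClass D) (hd : d ∈ D)
    (hdesc : H5.TT.Fac.Desc D d) {p : ℕ} (hp : p.Prime) {t : Down D d} (ht : t ^ p = 1)
    (hfree : ∀ z ∈ qD D d, ¬ Commute t z) : ∃ a, 3 ^ a ≡ D.ncard [MOD p] := by
  obtain ⟨⟨k, hk⟩, rfl⟩ := QuotientGroup.mk_surjective t
  set π := (QuotientGroup.mk' (Subgroup.center ↥(Subgroup.closure (perp D d))))
  set m := ordCompl[p] (orderOf k)
  have hkd : Commute k d := (H5.TT.Fac.commute_closure (fun w (hw : w ∈ perp D d) => hw.2.2) hk).symm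
  have hpow : (k ^ m) ^ p ^ (orderOf k).factorization p = 1 := by
    rw [← pow_mul, mul_comm, Nat.ordProj_mul_ordCompl_eq_self, pow_orderOf_eq_one]
  have hcop : m.Coprime (orderOf (π ⟨k, hk⟩)) := by
    refine Nat.Coprime.coprime_dvd_right (orderOf_dvd_of_pow_eq_one ht) ?_
    exact (Nat.coprime_ordCompl hp (orderOf_pos k).ne').symm
  obtain ⟨u, hu⟩ := exists_pow_eq_self_of_coprime hcop
  have hfree' : ∀ y ∈ perp D d, ¬ Commute (k ^ m) y := by
    intro y hy hc
    refine hfree _ (H5.TT.Fac.im_mem hy) ?_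
    show Commute (π ⟨k, hk⟩) (π ⟨y, Subgroup.subset_closure hy⟩)
    rw [← hu, ← map_pow]
    refine Commute.pow_left (Commute.map ?_ π) u
    exact Subtype.ext (by simpa using hc.eq)
  have hgd : Commute (k ^ m) d := hkd.pow_left m
  obtain ⟨a, ha⟩ := ncard_eq_pow (F := fixD D (k ^ m)) ⟨hd, hgd⟩
    (fun x hx => tt_mul_self hcl.1 hx.1) (fun x hx y hy => fixD_conj hcl hx hy)
    (fun x hx y hy => by
      by_cases hc : Commute x y
      · obtain rfl := fixD_pairwise hcl hd hgd hfree' x hx y hy hc
        rw [tt_mul_self hcl.1 hx.1, one_pow]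
      · exact tt_cube_of_not_commute hcl.1 hx.1 hy.1 hc)
  exact ⟨a, ha ▸ ncard_modEq hcl hp hpow⟩

end H58.Fischer
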