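import Cfsg.Agent.H58.Fischer.Unitary
import Cfsg.Agent.H34.FiM4.Models

/-!
No primitive group of 3-transpositions lies over a unitary group over four elements, except in
dimensions four and six.
-/

set_option autoImplicit false

namespace H58.Fischer

universe u

/-- Nothing over the unitary groups other than in dimensions four and six. -/
theorem noPSU : H71.Fischer.NoPSUStmt.{u} := by
  intro G _ _ D d n s hn hX
  rcases hn with rfl | hn
  · exact no_unitary_five s (H34.FiM4.psu_five_srg hX)
      fun p hp => H34.FiM4.exists_free_five hX hp
  · obtain ⟨N, K, c, e, hs, h1, h2, h3, h4⟩ := H34.FiM4.psu_srg (Or.inr hn) hX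
    exact no_unitary_large s hn rfl hs h1 h2 h3 h4

end H58.Fischer
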