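import Cfsg.Agent.H65.Fischer.Numerics

/-!
Arithmetic exclusion of links that are orthogonal over two elements, unitary, or of type M(24).
-/

set_option autoImplicit false
set_option linter.unusedSectionVars false

namespace H58.Fischer

open H65.Fischer (chk)

/-- The conditions on the number `m` of common partners of a non-commuting pair, when the link is
strongly regular with parameters `k l _ e` and eigenvalues `r > s`. -/
structure Feas (k l e : ℕ) (r s : ℤ) (m q : ℕ) : Prop where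
  lo : (k : ℤ) * ((e : ℤ) - r) ≤ (m : ℤ) * ((l : ℤ) - r)
  hi : (m : ℤ) * ((l : ℤ) - s) ≤ (k : ℤ) * ((e : ℤ) - s)
  pos : 0 < m
  lt : l < k
  mul : q * m = k * (k - l - 1)
  two : 2 ∣ q
  ok : chk k l m = true

variable {k l e m q : ℕ} {r s : ℤ}

theorem Feas.quot (h : Feas k l e r s m q) : k * (k - 1 - l) / m = q := by
  rw [show k - 1 - l = k - l - 1 by omega, ← h.mul, Nat.mul_div_cancel _ h.pos]

theorem Feas.parts (h : Feas k l e r s m q) :
    let T : ℤ := ((l : ℤ) - m) * ((k : ℤ) + q) + 2 * k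
    let D : ℤ := ((l : ℤ) - m) * ((l : ℤ) - m) + 4 * ((k : ℤ) - m)
    (∃ x : ℕ, T.natAbs * T.natAbs = D.natAbs * (x * x)) ∧ 3 ∣ (1 + k + q) * q := by
  intro T D
  have hdvd : k * (k - 1 - l) % m = 0 := by
    rw [show k - 1 - l = k - l - 1 by omega, ← h.mul, Nat.mul_mod_left]
  have hc := h.ok
  simp only [chk, hdvd, bne_self_eq_false, Bool.false_eq_true, if_false, h.quot,
    Bool.and_eq_true, beq_iff_eq] at hc
  obtain ⟨⟨h1, h2⟩, h3⟩ := hc
  have hT : ((l : ℤ) - m) * (((1 + k + q : ℕ) : ℤ) - 1) + 2 * k = T := by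
    simp only [T]; push_cast; ring
  rw [hT] at h1 h2
  obtain ⟨c, hc⟩ := Nat.dvd_of_mod_eq_zero h1
  refine ⟨?_, Nat.dvd_of_mod_eq_zero h3⟩
  rcases Nat.eq_zero_or_pos D.natAbs with h0 | h0
  · exact ⟨0, by rw [hc]; simp only [show (((l : ℤ) - m) * ((l : ℤ) - m) + 4 * ((k : ℤ) - m)) = D from rfl, h0, zero_mul]⟩
  rw [hc, Nat.mul_div_cancel_left _ h0] at h2
  exact ⟨Nat.sqrt c, by rw [hc, h2]⟩

/-- Off the conference case the discriminant is a square. -/
theorem Feas.square (h : Feas k l e r s m q) (hmk : m < k)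
    (hT : ((l : ℤ) - m) * ((k : ℤ) + q) + 2 * k ≠ 0) :
    ∃ w : ℤ, w * w = ((l : ℤ) - m) * ((l : ℤ) - m) + 4 * ((k : ℤ) - m) := by
  obtain ⟨⟨x, hx⟩, -⟩ := h.parts
  set T : ℤ := ((l : ℤ) - m) * ((k : ℤ) + q) + 2 * k
  set D : ℤ := ((l : ℤ) - m) * ((l : ℤ) - m) + 4 * ((k : ℤ) - m) with hD
  have hD0 : 0 < D := by
    have := mul_self_nonneg ((l : ℤ) - m)
    omega
  have hTT : 0 < T.natAbs * T.natAbs := by positivity
  have hxT : x ∣ T.natAbs := by
    have : x ^ 2 ∣ T.natAbs ^ 2 := ⟨D.natAbs, by rw [pow_two, pow_two, hx, mul_comm]⟩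
    exact (Nat.pow_dvd_pow_iff two_ne_zero).mp this
  obtain ⟨w, hw⟩ := hxT
  have hx0 : x ≠ 0 := fun h0 => by rw [h0, mul_zero, mul_zero] at hx; omega
  refine ⟨w, ?_⟩
  have : w * w = D.natAbs := by
    apply Nat.eq_of_mul_eq_mul_right (show 0 < x * x by positivity)
    rw [← hx, hw]; ring
  rw [← Int.natAbs_of_nonneg hD0.le, ← this]
  push_cast; rfl

/-- The check on an interval of values. -/
def chkRange (k l lo len : ℕ) : Bool :=
  (List.range len).all fun i => !(chk k l (lo + i) && (k * (k - 1 - l) / (lo + i)) % 2 == 0)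

theorem Feas.not_range (h : Feas k l e r s m q) {lo len : ℕ} (hc : chkRange k l lo len = true)
    (h1 : lo ≤ m) (h2 : m < lo + len) : False := by
  rw [chkRange, List.all_eq_true] at hc
  have h3 := hc (m - lo) (List.mem_range.mpr (by omega))
  rw [show lo + (m - lo) = m by omega, h.ok, h.quot, Nat.mod_eq_zero_of_dvd h.two |>.trans rfl] at h3
  simp at h3

theorem Feas.no_m24 (h : Feas 306936 31671 3240 351 (-81) m q) : False := by
  have h1 := h.lo
  have h2 := h.hi
  push_cast at h1 h2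
  exact h.not_range (lo := 28300) (len := 3810) (by decide +kernel) (by omega) (by omega)

/-- The two surviving values over the five-dimensional unitary group. -/
theorem Feas.unitary_five (h : Feas 165 36 9 3 (-9) m q) :
    (m = 30 ∧ q = 704) ∨ (m = 66 ∧ q = 320) := by
  have h1 := h.lo
  have h2 := h.hi
  push_cast at h1 h2
  have hm := h.mul
  have hall : (List.range 37).all (fun i => !(chk 165 36 (30 + i)) || (30 + i == 30) || (30 + i == 66))
      = true := by decide +kernel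
  rw [List.all_eq_true] at hall
  have h3 := hall (m - 30) (List.mem_range.mpr (by omega))
  rw [show 30 + (m - 30) = m by omega, h.ok] at h3
  simp at h3
  rcases h3 with rfl | rfl <;> omega

/-- A divisor of a power of two times a small number is small unless highly even. -/
theorem small_or_even {u N j : ℕ} (hj : 0 < j) (h : u ∣ 2 ^ N * j) : u ≤ 8 * j ∨ 16 ∣ u := by
  obtain ⟨x, y, hx, hy, rfl⟩ := exists_dvd_and_dvd_of_dvd_mul h
  obtain ⟨i, -, rfl⟩ := (Nat.dvd_prime_pow Nat.prime_two).mp hx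
  rcases le_or_gt i 3 with hi | hi
  · exact Or.inl (Nat.mul_le_mul (Nat.pow_le_pow_right two_pos hi : 2 ^ i ≤ 2 ^ 3)
      (Nat.le_of_dvd hj hy))
  · exact Or.inr (Dvd.dvd.mul_right (pow_dvd_pow 2 (show 4 ≤ i by omega)) y)

/-- The orthogonal equation has no solution for a large power of two. -/
theorem orth_large (a u t j : ℤ) (i : ℕ) (hi : 8 ≤ i) (ha : a.natAbs = 2 ^ i)
    (heq : u * t = 4 * a * a * j) (hlin : t = 2 * u + 6 * a - 1 - j) (hj : 0 < j) (hj' : j ≤ 9)
    (hu : |u| ≤ 3 * |a| + 1) (ht : |t| ≤ 13 * |a|) : False := by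
  have hA : (256 : ℤ) ≤ |a| := by
    rw [Int.abs_eq_natAbs, ha]
    exact_mod_cast (Nat.pow_le_pow_right two_pos hi : 2 ^ 8 ≤ 2 ^ i)
  have hnat : u.natAbs * t.natAbs = 2 ^ (2 * i + 2) * j.natAbs := by
    rw [← Int.natAbs_mul, heq, Int.natAbs_mul, Int.natAbs_mul, Int.natAbs_mul, ha]
    ring_nf
  have hj0 : 0 < j.natAbs := by omega
  have habs : |u| * |t| = 4 * (|a| * |a|) * j := by
    rw [← abs_mul, heq, abs_mul, abs_mul, abs_mul, abs_of_pos (show (0:ℤ) < 4 by norm_num),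
      abs_of_pos hj]; ring
  rcases small_or_even hj0 (Dvd.intro _ hnat : u.natAbs ∣ _) with hus | hue
  · have : |u| ≤ 72 := by rw [Int.abs_eq_natAbs]; omega
    nlinarith [abs_nonneg t, abs_nonneg u, mul_le_mul this ht (abs_nonneg t) (by norm_num : (0:ℤ) ≤ 72)]
  rcases small_or_even hj0 (Dvd.intro_left _ hnat : t.natAbs ∣ _) with hts | hte
  · have : |t| ≤ 72 := by rw [Int.abs_eq_natAbs]; omega
    nlinarith [abs_nonneg t, abs_nonneg u, mul_le_mul hu this (abs_nonneg t) (by positivity : (0:ℤ) ≤ 3 * |a| + 1)]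
  have h16u : (16 : ℤ) ∣ u := Int.natCast_dvd.mpr hue
  have h16t : (16 : ℤ) ∣ t := Int.natCast_dvd.mpr hte
  have h16a : (16 : ℤ) ∣ a := Int.natCast_dvd.mpr (ha ▸ pow_dvd_pow 2 (show 4 ≤ i by omega))
  omega

theorem Feas.orth_quot {a : ℤ} (h : Feas k l e r s m q) (hk : (k : ℤ) = 8 * a * a - 2 * a)
    (hl : (l : ℤ) = 4 * a * a - 1) :
    ∃ u t j : ℤ, (m : ℤ) = 4 * a * a + u ∧ u * t = 4 * a * a * j ∧ t = 2 * u + 6 * a - 1 - j ∧
      2 ∣ t ∧ t * (4 * a * a + u) = 8 * a * a * u + 24 * a * a * a - 4 * a * a := by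
  obtain ⟨c, hc⟩ := h.two
  have hmul : (q : ℤ) * m = k * ((k : ℤ) - l - 1) := by
    have h1 := congrArg (fun x : ℕ => (x : ℤ)) h.mul
    push_cast [Nat.cast_sub (show 1 ≤ k - l by have := h.lt; omega), Nat.cast_sub h.lt.le] at h1
    exact h1
  have key : (8 * a * a - (q : ℤ)) * (4 * a * a + ((m : ℤ) - 4 * a * a)) =
      8 * a * a * ((m : ℤ) - 4 * a * a) + 24 * a * a * a - 4 * a * a := by
    rw [hk, hl] at hmul
    linear_combination (-1 : ℤ) * hmul
  refine ⟨(m : ℤ) - 4 * a * a, 8 * a * a - q,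
    2 * ((m : ℤ) - 4 * a * a) + 6 * a - 1 - (8 * a * a - q), by ring, ?_, by ring, ?_, key⟩
  · linear_combination key
  · exact ⟨4 * a * a - c, by rw [hc]; push_cast; ring⟩

/-- No group over a plus type orthogonal group of dimension at least eight. -/
theorem Feas.no_orth_plus {i : ℕ} (hi : 2 ≤ i) {a : ℤ} (ha : a = 2 ^ i)
    (h : Feas k l e r s m q) (hk : (k : ℤ) = 8 * a * a - 2 * a) (hl : (l : ℤ) = 4 * a * a - 1)
    (he : (e : ℤ) = 2 * a * a + a) (hr : r = a - 1) (hs : s = -(2 * a + 1)) : False := by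
  have ha4 : 4 ≤ a := by
    rw [ha]; exact_mod_cast (Nat.pow_le_pow_right two_pos hi : 2 ^ 2 ≤ 2 ^ i)
  have h1 := h.lo
  have h2 := h.hi
  rw [hk, hl, he, hr] at h1
  rw [hk, hl, he, hs] at h2
  have hlo : 4 * a * a + 2 ≤ m := by
    have hp : 0 < 4 * a * a - 1 - (a - 1) := by nlinarith
    refine le_of_mul_le_mul_right (le_trans (le_of_eq ?_) h1) hp
    ring
  have hhi : (m : ℤ) ≤ 4 * a * a + 3 * a - 1 := by
    have hp : 0 < 4 * a * a - 1 - -(2 * a + 1) := by nlinarith
    refine le_of_mul_le_mul_right (le_trans h2 (le_of_eq ?_)) hp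
    ring
  rcases le_or_gt i 7 with hi7 | hi8
  · interval_cases i <;> norm_num at ha <;> subst ha <;> norm_num at hk hl hlo hhi <;>
      (obtain rfl : k = _ := Int.ofNat_inj.mp hk) <;> (obtain rfl : l = _ := Int.ofNat_inj.mp hl)
    · exact h.not_range (lo := 66) (len := 10) (by decide +kernel) (by omega) (by omega)
    · exact h.not_range (lo := 258) (len := 22) (by decide +kernel) (by omega) (by omega)
    · exact h.not_range (lo := 1026) (len := 46) (by decide +kernel) (by omega) (by omega)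
    · exact h.not_range (lo := 4098) (len := 94) (by decide +kernel) (by omega) (by omega)
    · exact h.not_range (lo := 16386) (len := 190) (by decide +kernel) (by omega) (by omega)
    · exact h.not_range (lo := 65538) (len := 382) (by decide +kernel) (by omega) (by omega)
  obtain ⟨u, t, j, hmu, heq, hlin, ⟨t', rfl⟩, hkey⟩ := h.orth_quot hk hl
  have hu2 : 2 ≤ u := by linarith
  have hu3 : u ≤ 3 * a - 1 := by linarith
  have h256 : 256 ≤ a := by
    rw [ha]; exact_mod_cast (Nat.pow_le_pow_right two_pos hi8 : 2 ^ 8 ≤ 2 ^ i)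
  have hpos : 0 < 4 * a * a + u := by nlinarith
  have ht0 : 0 < 2 * t' := by
    by_contra hcon
    push Not at hcon
    nlinarith [mul_le_mul_of_nonneg_right hcon hpos.le]
  have ht13 : 2 * t' ≤ 13 * a := by
    by_contra hcon
    push Not at hcon
    nlinarith [mul_le_mul_of_nonneg_right hcon.le hpos.le, mul_le_mul_of_nonneg_left hu3 (mul_nonneg (by linarith : (0:ℤ) ≤ 8 * a) (by linarith : (0:ℤ) ≤ a))]
  have hj0 : 0 < j := by
    by_contra hcon
    push Not at hcon
    nlinarith [mul_pos (show 0 < u by linarith) ht0, mul_nonpos_of_nonneg_of_nonpos (mul_nonneg (by linarith : (0:ℤ) ≤ 4 * a) (by linarith : (0:ℤ) ≤ a)) hcon]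
  have hj9 : j ≤ 9 := by
    by_contra hcon
    push Not at hcon
    nlinarith [mul_le_mul hu3 ht13 ht0.le (by linarith : (0:ℤ) ≤ 3 * a - 1), mul_le_mul_of_nonneg_left (show 10 ≤ j by omega) (mul_nonneg (by linarith : (0:ℤ) ≤ 4 * a) (by linarith : (0:ℤ) ≤ a))]
  have haA : |a| = a := abs_of_pos (by linarith)
  refine orth_large a u (2 * t') j i (by omega) (by rw [ha, Int.natAbs_pow]; rfl) heq hlin hj0 hj9 ?_ ?_
  · rw [haA, abs_of_pos (by linarith : 0 < u)]; linarith
  · rw [haA, abs_of_pos ht0]; exact ht13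

/-- No group over a minus type orthogonal group of dimension at least eight. -/
theorem Feas.no_orth_minus {i : ℕ} (hi : 2 ≤ i) {b : ℤ} (hb : b = 2 ^ i)
    (h : Feas k l e r s m q) (hk : (k : ℤ) = 8 * b * b + 2 * b) (hl : (l : ℤ) = 4 * b * b - 1)
    (he : (e : ℤ) = 2 * b * b - b) (hr : r = 2 * b - 1) (hs : s = -(b + 1)) : False := by
  have hb4 : 4 ≤ b := by
    rw [hb]; exact_mod_cast (Nat.pow_le_pow_right two_pos hi : 2 ^ 2 ≤ 2 ^ i)
  have h1 := h.lo
  have h2 := h.hi
  rw [hk, hl, he, hr] at h1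
  rw [hk, hl, he, hs] at h2
  have hlo : 4 * b * b - 3 * b - 1 ≤ m := by
    have hp : 0 < 4 * b * b - 1 - (2 * b - 1) := by nlinarith
    refine le_of_mul_le_mul_right (le_trans (le_of_eq ?_) h1) hp
    ring
  have hhi : (m : ℤ) ≤ 4 * b * b + 2 := by
    have hp : 0 < 4 * b * b - 1 - -(b + 1) := by nlinarith
    refine le_of_mul_le_mul_right (le_trans h2 (le_of_eq ?_)) hp
    ring
  rcases le_or_gt i 7 with hi7 | hi8
  · interval_cases i <;> norm_num at hb <;> subst hb <;> norm_num at hk hl hlo hhi <;>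
      (obtain rfl : k = _ := Int.ofNat_inj.mp hk) <;> (obtain rfl : l = _ := Int.ofNat_inj.mp hl)
    · exact h.not_range (lo := 51) (len := 16) (by decide +kernel) (by omega) (by omega)
    · exact h.not_range (lo := 231) (len := 28) (by decide +kernel) (by omega) (by omega)
    · exact h.not_range (lo := 975) (len := 52) (by decide +kernel) (by omega) (by omega)
    · exact h.not_range (lo := 3999) (len := 100) (by decide +kernel) (by omega) (by omega)
    · exact h.not_range (lo := 16191) (len := 196) (by decide +kernel) (by omega) (by omega)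
    · exact h.not_range (lo := 65151) (len := 388) (by decide +kernel) (by omega) (by omega)
  obtain ⟨u, t, j, hmu, heq, hlin, ⟨t', rfl⟩, hkey⟩ :=
    h.orth_quot (a := -b) (by rw [hk]; ring) (by rw [hl]; ring)
  have h256 : 256 ≤ b := by
    rw [hb]; exact_mod_cast (Nat.pow_le_pow_right two_pos hi8 : 2 ^ 8 ≤ 2 ^ i)
  have hu1 : -3 * b - 1 ≤ u := by nlinarith
  have hu2 : u ≤ 2 := by nlinarith
  have hpos : 0 < 4 * b * b + u := by nlinarith
  have hbb : 0 ≤ 8 * b * b := by positivity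
  have ht0 : 2 * t' < 0 := by
    by_contra hcon
    push Not at hcon
    nlinarith [mul_le_mul_of_nonneg_left hu2 hbb]
  have ht13 : -(13 * b) ≤ 2 * t' := by
    by_contra hcon
    push Not at hcon
    nlinarith [mul_le_mul_of_nonneg_right hcon.le hpos.le, mul_le_mul_of_nonneg_left hu1 hbb]
  have hj_odd : j % 2 = 1 := by omega
  have hu_neg : u < 0 := by
    by_contra hcon
    push Not at hcon
    interval_cases u
    · have : j = 0 := by nlinarith
      omega
    all_goals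
      rcases le_or_gt 1 j with hj | hj
      · nlinarith
      · nlinarith [mul_le_mul_of_nonneg_left (show j ≤ -1 by omega) hbb]
  have hj0 : 0 < j := by
    by_contra hcon
    push Not at hcon
    nlinarith [mul_pos_of_neg_of_neg hu_neg ht0, mul_le_mul_of_nonneg_left hcon hbb]
  have hj9 : j ≤ 9 := by
    by_contra hcon
    push Not at hcon
    nlinarith [mul_le_mul (show -u ≤ 3 * b + 1 by linarith) (show -(2 * t') ≤ 13 * b by linarith)
      (by linarith : (0:ℤ) ≤ -(2 * t')) (by linarith : (0:ℤ) ≤ 3 * b + 1),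
      mul_le_mul_of_nonneg_left (show 11 ≤ j by omega) hbb]
  have hbA : |(-b)| = b := by rw [abs_neg, abs_of_pos (by linarith)]
  refine orth_large (-b) u (2 * t') j i (by omega) (by rw [Int.natAbs_neg, hb, Int.natAbs_pow]; rfl)
    heq hlin hj0 hj9 ?_ ?_
  · rw [hbA, abs_of_neg hu_neg]; linarith
  · rw [hbA, abs_of_neg ht0]; linarith

/-- An odd divisor of a number times a power of two divides the number. -/
theorem dvd_of_odd {h z : ℤ} {N : ℕ} (ho : ¬ (2 : ℤ) ∣ h) (hd : h ∣ z * 2 ^ N) : h ∣ z :=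
  (((Int.prime_two.coprime_iff_not_dvd).mpr ho).symm.pow_right).dvd_of_dvd_mul_right hd

/-- No group over a unitary group of dimension at least seven. -/
theorem Feas.no_unitary {n : ℕ} {ε : ℤ} (hn : 7 ≤ n) (hε : ε = (-1) ^ n) (h : Feas k l e r s m q)
    (hk : 6 * (k : ℤ) = (2 ^ n - ε) * (2 ^ n + 2 * ε))
    (hl : 24 * (l : ℤ) = (2 ^ n - 4 * ε) * (2 ^ n + 8 * ε)) (he : 4 * (e : ℤ) = l)
    (hr : (ε = 1 ∧ r = 2 ^ (n - 2) - 1 ∧ s = -(2 ^ (n - 3) + 1)) ∨
      (ε = -1 ∧ r = 2 ^ (n - 3) - 1 ∧ s = -(2 ^ (n - 2) + 1))) : False := by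
  obtain ⟨p, rfl⟩ : ∃ p, n = p + 4 := ⟨n - 4, by omega⟩
  rw [show p + 4 - 2 = p + 2 by omega, show p + 4 - 3 = p + 1 by omega] at hr
  have hP : (8 : ℤ) ≤ 2 ^ p := by
    exact_mod_cast (Nat.pow_le_pow_right two_pos (show 3 ≤ p by omega) : 2 ^ 3 ≤ 2 ^ p)
  simp only [pow_add] at hk hl hr
  norm_num at hk hl hr
  set P : ℤ := 2 ^ p with hPdef
  have hεε : ε = 1 ∨ ε = -1 := hr.imp (fun h => h.1) fun h => h.1
  have hkl : (k : ℤ) - l - 1 = 32 * P * P := by
    rcases hεε with rfl | rfl <;> linarith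
  have hlQ : (l : ℚ) = ((P : ℚ) * 16 - 4 * ε) * (P * 16 + 8 * ε) / 24 := by
    have h1 : (24 : ℚ) * (l : ℚ) = ((P : ℚ) * 16 - 4 * ε) * (P * 16 + 8 * ε) := by exact_mod_cast hl
    linarith
  have hkQ : (k : ℚ) = ((P : ℚ) * 16 - ε) * (P * 16 + 2 * ε) / 6 := by
    have h1 : (6 : ℚ) * (k : ℚ) = ((P : ℚ) * 16 - ε) * (P * 16 + 2 * ε) := by exact_mod_cast hk
    linarith
  have heQ : (e : ℚ) = (l : ℚ) / 4 := by
    have h1 : (4 : ℚ) * (e : ℚ) = (l : ℚ) := by exact_mod_cast he
    linarith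
  have hPQ : (8 : ℚ) ≤ (P : ℚ) := by exact_mod_cast hP
  -- the interval
  have hz : (ε = 1 ∧ -(4 * P) ≤ (l : ℤ) + 2 - m ∧ (l : ℤ) + 2 - m ≤ 14 * P) ∨
      (ε = -1 ∧ -(14 * P) ≤ (l : ℤ) + 2 - m ∧ (l : ℤ) + 2 - m ≤ 4 * P) := by
    have h1 : (k : ℚ) * ((e : ℚ) - r) ≤ (m : ℚ) * ((l : ℚ) - r) := by exact_mod_cast h.lo
    have h2 : (m : ℚ) * ((l : ℚ) - s) ≤ (k : ℚ) * ((e : ℚ) - s) := by exact_mod_cast h.hi
    rcases hr with ⟨hε1, hr1, hs1⟩ | ⟨hε1, hr1, hs1⟩
    · subst hr1 hs1 hε1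
      push_cast at h1 h2 hlQ hkQ
      refine Or.inl ⟨rfl, ?_, ?_⟩
      · have : (m : ℚ) ≤ (l : ℚ) + 2 + 4 * P := by
          have hp : (0 : ℚ) < (l : ℚ) - (-1 + -((P : ℚ) * 2)) := by rw [hlQ]; nlinarith
          refine le_of_mul_le_mul_right (le_trans h2 (le_of_eq ?_)) hp
          rw [heQ, hkQ, hlQ]; ring
        have : (m : ℤ) ≤ (l : ℤ) + 2 + 4 * P := by exact_mod_cast this
        linarith
      · have : (l : ℚ) + 2 - 14 * P ≤ (m : ℚ) := by
          have hp : (0 : ℚ) < (l : ℚ) - ((P : ℚ) * 4 - 1) := by rw [hlQ]; nlinarith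
          refine le_of_mul_le_mul_right (le_trans (le_of_eq ?_) h1) hp
          rw [heQ, hkQ, hlQ]; ring
        have : (l : ℤ) + 2 - 14 * P ≤ (m : ℤ) := by exact_mod_cast this
        linarith
    · subst hr1 hs1 hε1
      push_cast at h1 h2 hlQ hkQ
      refine Or.inr ⟨rfl, ?_, ?_⟩
      · have : (m : ℚ) ≤ (l : ℚ) + 2 + 14 * P := by
          have hp : (0 : ℚ) < (l : ℚ) - (-1 + -((P : ℚ) * 4)) := by rw [hlQ]; nlinarith
          refine le_of_mul_le_mul_right (le_trans h2 (le_of_eq ?_)) hp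
          rw [heQ, hkQ, hlQ]; ring
        have : (m : ℤ) ≤ (l : ℤ) + 2 + 14 * P := by exact_mod_cast this
        linarith
      · have : (l : ℚ) + 2 - 4 * P ≤ (m : ℚ) := by
          have hp : (0 : ℚ) < (l : ℚ) - ((P : ℚ) * 2 - 1) := by rw [hlQ]; nlinarith
          refine le_of_mul_le_mul_right (le_trans (le_of_eq ?_) h1) hp
          rw [heQ, hkQ, hlQ]; ring
        have : (l : ℤ) + 2 - 4 * P ≤ (m : ℤ) := by exact_mod_cast this
        linarith
  have hmk : m < k := by
    rcases hz with ⟨-, hz1, hz2⟩ | ⟨-, hz1, hz2⟩ <;> nlinarith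
  have hmul : (q : ℤ) * m = k * (32 * P * P) := by
    have h1 := congrArg (fun x : ℕ => (x : ℤ)) h.mul
    push_cast [Nat.cast_sub (show 1 ≤ k - l by have := h.lt; omega), Nat.cast_sub h.lt.le] at h1
    rw [h1, hkl]
  -- the discriminant
  obtain ⟨w, hw⟩ := h.square hmk (by
    intro h0
    rcases le_or_gt (m : ℤ) (l : ℤ) with hml | hml
    · nlinarith [mul_nonneg (show (0:ℤ) ≤ (l : ℤ) - m by linarith) (show (0:ℤ) ≤ (k : ℤ) + q by positivity)]
    · have hq : (k : ℤ) < q := by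
        by_contra hcon
        push Not at hcon
        have : (m : ℤ) < 32 * P * P := by
          rcases hz with ⟨rfl, hz1, hz2⟩ | ⟨rfl, hz1, hz2⟩ <;> nlinarith
        nlinarith
      nlinarith [mul_le_mul_of_nonneg_right (show (l : ℤ) - m ≤ -1 by linarith) (show (0:ℤ) ≤ (k : ℤ) + q by positivity)])
  obtain ⟨y, hy⟩ : ∃ y : ℤ, (l : ℤ) + 2 - m = ε * y := ⟨ε * ((l : ℤ) + 2 - m), by
    rcases hεε with rfl | rfl <;> ring⟩
  have hy1 : -(4 * P) ≤ y := by rcases hz with ⟨rfl, h1, h2⟩ | ⟨rfl, h1, h2⟩ <;> linarith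
  have hy2 : y ≤ 14 * P := by rcases hz with ⟨rfl, h1, h2⟩ | ⟨rfl, h1, h2⟩ <;> linarith
  have hwy : (|w| - y) * (|w| + y) = 2 ^ (2 * p + 7) := by
    have e1 : |w| * |w| = w * w := abs_mul_abs_self w
    have e2 : (2 : ℤ) ^ (2 * p + 7) = 128 * P * P := by
      rw [pow_add, two_mul, pow_add, ← hPdef]; ring
    rw [e2, show (|w| - y) * (|w| + y) = |w| * |w| - y * y by ring, e1, hw]
    have : y * y = ((l : ℤ) + 2 - m) * ((l : ℤ) + 2 - m) := by
      rw [hy]; rcases hεε with rfl | rfl <;> ring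
    rw [this]
    linear_combination 4 * hkl
  have hsq : y * y < |w| * |w| := by
    have := hwy.symm ▸ pow_pos (by norm_num : (0:ℤ) < 2) (2 * p + 7)
    nlinarith
  have hlt1 : 0 < |w| - y := by nlinarith [abs_nonneg w]
  have hlt2 : 0 < |w| + y := by nlinarith [abs_nonneg w]
  obtain ⟨A, -, hA⟩ := (Nat.dvd_prime_pow Nat.prime_two).mp
    (show (|w| + y).toNat ∣ 2 ^ (2 * p + 7) from Int.natCast_dvd_natCast.mp
      (by rw [Int.toNat_of_nonneg hlt2.le]; exact ⟨|w| - y, by push_cast; linear_combination -hwy⟩))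
  have hA' : |w| + y = (2 : ℤ) ^ A := by
    rw [← Int.toNat_of_nonneg hlt2.le, hA]; norm_num
  obtain ⟨B, -, hB⟩ := (Nat.dvd_prime_pow Nat.prime_two).mp
    (show (|w| - y).toNat ∣ 2 ^ (2 * p + 7) from Int.natCast_dvd_natCast.mp
      (by rw [Int.toNat_of_nonneg hlt1.le]; exact ⟨|w| + y, by push_cast; linear_combination -hwy⟩))
  have hB' : |w| - y = (2 : ℤ) ^ B := by
    rw [← Int.toNat_of_nonneg hlt1.le, hB]; norm_num
  have hAB : A + B = 2 * p + 7 := by
    refine Nat.pow_right_injective (le_refl 2) ?_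
    show 2 ^ (A + B) = 2 ^ (2 * p + 7)
    have : (2 : ℤ) ^ (A + B) = 2 ^ (2 * p + 7) := by
      rw [pow_add, ← hA', ← hB', mul_comm, hwy]
    exact_mod_cast this
  have hycases : y = -(4 * P) ∨ y = 14 * P ∨ y = 4 * P := by
    have hpow : ∀ {i j : ℕ}, i ≤ j → (2 : ℤ) ^ i ≤ 2 ^ j := fun h => pow_le_pow_right₀ (by norm_num) h
    rcases le_or_gt (p + 6) A with hA6 | hA6
    · exfalso
      have h1 := hpow hA6
      have h2 := hpow (show B ≤ p + 1 by omega)
      rw [pow_add, ← hPdef] at h1 h2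
      norm_num at h1 h2
      linarith
    rcases le_or_gt A (p + 2) with hA2 | hA2
    · exfalso
      have h1 := hpow hA2
      have h2 := hpow (show p + 5 ≤ B by omega)
      rw [pow_add, ← hPdef] at h1 h2
      norm_num at h1 h2
      linarith
    obtain rfl | rfl | rfl : A = p + 3 ∨ A = p + 4 ∨ A = p + 5 := by omega
    · obtain rfl : B = p + 4 := by omega
      rw [pow_add, ← hPdef] at hA' hB'
      norm_num at hA' hB'
      left; linarith
    · obtain rfl : B = p + 3 := by omega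
      rw [pow_add, ← hPdef] at hA' hB'
      norm_num at hA' hB'
      right; right; linarith
    · obtain rfl : B = p + 2 := by omega
      rw [pow_add, ← hPdef] at hA' hB'
      norm_num at hA' hB'
      right; left; linarith
  have h2P : (4 : ℤ) ∣ P := by
    rw [hPdef]; exact ⟨2 ^ (p - 2), by rw [show (4:ℤ) = 2 ^ 2 by norm_num, ← pow_add]; congr 1; omega⟩
  have hdvd : ∀ {x z : ℤ}, ¬ (2 : ℤ) ∣ x → x ∣ z * (P * P * 2 ^ 12) → x ∣ z := fun {x z} ho hd =>
    dvd_of_odd (N := 2 * p + 12) ho (by rwa [pow_add, two_mul, pow_add, ← hPdef])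
  rcases hycases with rfl | rfl | rfl
  · -- `24 m = (X + 2ε)(X + 8ε)`
    have h24 : 24 * (m : ℤ) = (P * 16 + 2 * ε) * (P * 16 + 8 * ε) := by
      rcases hεε with rfl | rfl <;> linarith
    have hdiv : (2 * P + ε) ∣ (P * 16 - ε) * (P * P * 2 ^ 12) := by
      refine ⟨256 * q, ?_⟩
      have h0 : (P * 16 + 2 * ε) ≠ 0 := by rcases hεε with rfl | rfl <;> omega
      apply mul_left_cancel₀ h0
      linear_combination (-4096 * P * P) * hk - 32 * (24 * hmul - (q : ℤ) * h24)
    have hd9 : (2 * P + ε) ∣ 9 := by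
      have h1 := hdvd (by rcases hεε with rfl | rfl <;> omega) hdiv
      have h2 := dvd_sub h1 (dvd_mul_right (2 * P + ε) 8)
      rcases hεε with rfl | rfl <;> ring_nf at h2 ⊢ <;> simpa using h2
    have := Int.le_of_dvd (by norm_num) hd9
    rcases hεε with rfl | rfl <;> omega
  · -- `24 m = (X - ε)(X - 16ε)`
    have h24 : 24 * (m : ℤ) = (P * 16 - ε) * (P * 16 - 16 * ε) := by
      rcases hεε with rfl | rfl <;> linarith
    have hdiv : (P - ε) ∣ (P * 16 + 2 * ε) * (P * P * 2 ^ 12) := by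
      refine ⟨512 * q, ?_⟩
      have h0 : (P * 16 - ε) ≠ 0 := by rcases hεε with rfl | rfl <;> omega
      apply mul_left_cancel₀ h0
      linear_combination (-4096 * P * P) * hk - 32 * (24 * hmul - (q : ℤ) * h24)
    have hd18 : (P - ε) ∣ 18 := by
      have h1 := hdvd (by rcases hεε with rfl | rfl <;> omega) hdiv
      have h2 := dvd_sub h1 (dvd_mul_right (P - ε) 16)
      rcases hεε with rfl | rfl <;> ring_nf at h2 ⊢ <;> simpa using h2
    have hle := Int.le_of_dvd (by norm_num) hd18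
    have hp : p < 5 := by
      by_contra hcon
      have h1 : (2 : ℤ) ^ 5 ≤ P := pow_le_pow_right₀ (by norm_num) (by omega)
      rcases hεε with rfl | rfl <;> omega
    obtain rfl | rfl : p = 3 ∨ p = 4 := by omega
    · obtain rfl : ε = -1 := by rw [hε]; norm_num
      have hP3 : P = 8 := by rw [hPdef]; norm_num
      rw [hP3] at hk hl h24
      norm_num at hk hl h24
      obtain rfl : k = 2709 := by omega
      obtain rfl : l = 660 := by omega
      obtain rfl : m = 774 := by omega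
      exact absurd h.ok (by decide +kernel)
    · obtain rfl : ε = 1 := by rw [hε]; norm_num
      have hP4 : P = 16 := by rw [hPdef]; norm_num
      rw [hP4] at hd18
      norm_num at hd18
  · -- `24 m = X² - 2εX + 16`
    have h24 : 24 * (m : ℤ) = 16 * (16 * P * P - 2 * ε * P + 1) := by
      rcases hεε with rfl | rfl <;> linarith
    set g : ℤ := 16 * P * P - 2 * ε * P + 1 with hg
    have hdiv : g ∣ ((P * 16 - ε) * (P * 16 + 2 * ε)) * (P * P * 2 ^ 12) := by
      refine ⟨512 * q, ?_⟩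
      linear_combination (-4096 * P * P) * hk - 32 * (24 * hmul - (q : ℤ) * h24)
    have hodd : ¬ (2 : ℤ) ∣ g := by
      rintro ⟨c, hc⟩
      have : (2 : ℤ) ∣ 1 := ⟨c - 8 * P * P + ε * P, by linarith [hg]⟩
      omega
    have h1 : g ∣ (48 * ε * P - 18 : ℤ) := by
      have h2 := dvd_sub (hdvd hodd hdiv) (dvd_mul_right g 16)
      have hX : (P * 16 - ε) * (P * 16 + 2 * ε) - g * 16 = 48 * ε * P - 18 := by
        rw [hg]; rcases hεε with rfl | rfl <;> ring
      rwa [hX] at h2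
    rcases hεε with rfl | rfl
    · have := Int.le_of_dvd (by nlinarith) h1
      nlinarith
    · have := Int.le_of_dvd (by nlinarith) (dvd_neg.mpr h1)
      nlinarith

end H58.Fischer
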