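import Cfsg.Agent.H58.Fischer.Params
import Cfsg.Agent.H34.FiM4.OrthModels

/-!
No primitive group of 3-transpositions lies over an orthogonal group of dimension at least eight
over the field with two elements.
-/

set_option autoImplicit false

namespace H58.Fischer

open Cfsg H99

universe u

/-- Nothing over a hyperbolic orthogonal group. -/
theorem noOPlus : H71.Fischer.NoOPlusStmt.{u} := by
  intro G _ _ D d m s hm hX
  obtain ⟨k, l, c, e, hs, hk, hl, hc, he⟩ := H34.FiM4.oPlus_srg hm hX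
  set a : ℤ := 2 ^ (m - 2) with ha
  have ha4 : (4 : ℤ) ≤ a := by
    rw [ha]; exact_mod_cast (Nat.pow_le_pow_right two_pos (by omega : 2 ≤ m - 2) : 2 ^ 2 ≤ _)
  have hlk : l + 1 < k := by
    have : (l : ℤ) + 1 < k := by nlinarith
    exact_mod_cast this
  obtain ⟨n, μ, q, -, -, hF⟩ := exists_feas
    (H88.Fischer.local_of_down s.cls s.prim s.mem s.desc hs hlk)
    (r := a - 1) (s := -(2 * a + 1)) (by rw [hc, he]; ring) (by rw [he, hl]; ring) (by linarith)
  exact hF.no_orth_plus (show 2 ≤ m - 2 by omega) ha (by rw [hk]; ring) (by rw [hl]; ring)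
    (by rw [he]; ring) rfl rfl

/-- Nothing over an elliptic orthogonal group. -/
theorem noOMinus : H71.Fischer.NoOMinusStmt.{u} := by
  intro G _ _ D d m s hm hX
  obtain ⟨k, l, c, e, hs, hk, hl, hc, he⟩ := H34.FiM4.oMinus_srg hm hX
  set b : ℤ := 2 ^ (m - 1) with hb
  have hb4 : (4 : ℤ) ≤ b := by
    rw [hb]; exact_mod_cast (Nat.pow_le_pow_right two_pos (by omega : 2 ≤ m - 1) : 2 ^ 2 ≤ _)
  have hlk : l + 1 < k := by
    have : (l : ℤ) + 1 < k := by nlinarith
    exact_mod_cast this
  obtain ⟨n, μ, q, -, -, hF⟩ := exists_feas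
    (H88.Fischer.local_of_down s.cls s.prim s.mem s.desc hs hlk)
    (r := 2 * b - 1) (s := -(b + 1)) (by rw [hc, he]; ring) (by rw [he, hl]; ring) (by linarith)
  exact hF.no_orth_minus (show 2 ≤ m - 1 by omega) hb (by rw [hk]; ring) (by rw [hl]; ring)
    (by rw [he]; ring) rfl rfl

end H58.Fischer
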