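import Cfsg.Agent.H58.Fischer.Numerics
import Cfsg.Agent.H88.Fischer.M2
import Cfsg.Agent.H71.Fischer.Defs

/-!
The parameter conditions on a primitive class, from the parameters of the partners of one member.
-/

set_option autoImplicit false
set_option linter.unusedSectionVars false

namespace H58.Fischer

open Cfsg H99
open H65.Fischer (IsSRG graphOn srg_square chk)
open H88.Fischer (Local)

variable {G : Type*} [Group G] [Finite G] {D : Set G} {k l c e n m : ℕ}

/-- The parameters satisfy the tested conditions. -/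
theorem chk_eq (h : Local D k l c e) (hs : IsSRG D n k l m) (hm : 0 < m) (hmk : m ≤ k)
    (hpe : k * (k - l - 1) = (n - k - 1) * m) (hkn : k < n) : chk k l m = true := by
  classical
  have hlk := h.lk
  letI := Fintype.ofFinite D
  have hdisc : 0 < ((l : ℤ) - m) ^ 2 + 4 * ((k : ℤ) - m) := by
    rcases lt_or_eq_of_le hmk with hlt | rfl
    · have := sq_nonneg ((l : ℤ) - m)
      omega
    · have : ((l : ℤ) - m) ≠ 0 := by omega
      have := sq_pos_of_ne_zero this
      omega
  obtain ⟨x, hx⟩ := srg_square (graphOn D) hs.isSRGWith (by omega) hdisc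
  have h3 := hs.three_dvd h.tt h.conj
  set k2 := n - k - 1 with hk2
  have he : k * (k - 1 - l) = k2 * m := by rw [← hpe]; congr 1; omega
  have hn : n = 1 + k + k2 := by omega
  simp only [chk, he, Nat.mul_mod_left, Nat.mul_div_cancel _ hm, bne_self_eq_false,
    Bool.false_eq_true, if_false, Bool.and_eq_true, beq_iff_eq]
  set T : ℤ := ((l : ℤ) - m) * (((1 + k + k2 : ℕ) : ℤ) - 1) + 2 * k with hT
  have hD : (((l : ℤ) - m) * ((l : ℤ) - m) + 4 * ((k : ℤ) - m)).natAbs * (x.natAbs * x.natAbs) =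
      T.natAbs * T.natAbs := by
    rw [← Int.natAbs_mul, ← Int.natAbs_mul, ← Int.natAbs_mul, hT, ← hn, hx, pow_two]
  have hpos : 0 < (((l : ℤ) - m) * ((l : ℤ) - m) + 4 * ((k : ℤ) - m)).natAbs := by
    rw [Int.natAbs_pos, ← pow_two]; exact hdisc.ne'
  refine ⟨⟨?_, ?_⟩, ?_⟩
  · rw [← hD]; exact Nat.mul_mod_right _ _
  · rw [← hD, Nat.mul_div_cancel_left _ hpos, ← pow_two x.natAbs, Nat.sqrt_eq', pow_two]
  · rw [← hn, show k2 = n - 1 - k by omega]
    exact Nat.mod_eq_zero_of_dvd h3

/-- All conditions together. -/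
theorem exists_feas (h : Local D k l c e) {r s : ℤ} (hsum : r + s = (c : ℤ) - e)
    (hprod : r * s = (e : ℤ) - l) (hrs : s < r) :
    ∃ n m q, IsSRG D n k l m ∧ n = k + 1 + q ∧ Feas k l e r s m q := by
  obtain ⟨n, m, hs, hm, hpe, hkn⟩ := h.exists_srg
  have hmk := H88.Fischer.m_le h hs
  have hlk := h.lk
  obtain ⟨h1, h2⟩ := H88.Fischer.link_bounds h hs (r := (r : ℝ)) (s := (s : ℝ))
    (by exact_mod_cast hsum) (by exact_mod_cast hprod) (by exact_mod_cast hrs)
  refine ⟨n, m, n - k - 1, hs, by omega, ⟨?_, ?_, hm, by omega, hpe.symm,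
    H88.Fischer.two_dvd h hs, chk_eq h hs hm hmk hpe hkn⟩⟩
  · have h1' : (k : ℤ) * ((e : ℤ) - r) ≤ ((l : ℤ) - r) * m := by exact_mod_cast h1
    linarith
  · have h2' : ((l : ℤ) - s) * m ≤ (k : ℤ) * ((e : ℤ) - s) := by exact_mod_cast h2
    linarith

end H58.Fischer
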