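import Cfsg.Agent.H58.Fischer.FixedSet

/-!
No primitive group of 3-transpositions lies over a unitary group over four elements of dimension
five or at least seven: the arithmetic, and the two cases killed by fixed sets.
-/

set_option autoImplicit false

namespace H58.Fischer

open Cfsg H99
open H65.Fischer (IsSRG)
open H5.TT.Fac (Down qD)

variable {G : Type*} [Group G] [Finite G] {D : Set G} {d : G}

/-- Powers of three are not congruent to `0` modulo `5`. -/
theorem pow_three_five (a : ℕ) : ¬ 3 ^ a ≡ 870 [MOD 5] := by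
  intro h
  have h5 : 5 ∣ 3 ^ a := (Nat.modEq_zero_iff_dvd).1 (h.trans (by decide))
  exact absurd ((by norm_num : Nat.Prime 5).dvd_of_dvd_pow h5) (by norm_num)

/-- Powers of three are not congruent to `2` modulo `11`. -/
theorem pow_three_eleven (a : ℕ) : ¬ 3 ^ a ≡ 486 [MOD 11] := by
  have h : 3 ^ a % 11 = 1 ∨ 3 ^ a % 11 = 3 ∨ 3 ^ a % 11 = 9 ∨ 3 ^ a % 11 = 5 ∨ 3 ^ a % 11 = 4 := by
    induction a with
    | zero => decide
    | succ a ih =>
      rw [pow_succ, Nat.mul_mod]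
      rcases ih with h | h | h | h | h <;> rw [h] <;> decide
  intro hm
  rw [Nat.ModEq] at hm
  omega

/-- Dimension five. -/
theorem no_unitary_five (s : H71.Fischer.Step D d) (hs : IsSRG (qD D d) 165 36 3 9)
    (hel : ∀ p, p = 5 ∨ p = 11 → ∃ g : Down D d, orderOf g = p ∧ ∀ t ∈ qD D d, ¬ Commute g t) :
    False := by
  obtain ⟨n, m, q, hsrg, hn, hF⟩ := exists_feas
    (H88.Fischer.local_of_down s.cls s.prim s.mem s.desc hs (by norm_num)) (r := 3) (s := -9)
    (by norm_num) (by norm_num) (by norm_num)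
  rcases hF.unitary_five with ⟨-, rfl⟩ | ⟨-, rfl⟩
  · obtain ⟨g, hg, hfree⟩ := hel 5 (Or.inl rfl)
    obtain ⟨a, ha⟩ := exists_pow_modEq s.cls s.mem s.desc (by norm_num : Nat.Prime 5)
      (hg ▸ pow_orderOf_eq_one g) hfree
    rw [hsrg.card, show n = 870 by omega] at ha
    exact pow_three_five a ha
  · obtain ⟨g, hg, hfree⟩ := hel 11 (Or.inr rfl)
    obtain ⟨a, ha⟩ := exists_pow_modEq s.cls s.mem s.desc (by norm_num : Nat.Prime 11)
      (hg ▸ pow_orderOf_eq_one g) hfree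
    rw [hsrg.card, show n = 486 by omega] at ha
    exact pow_three_eleven a ha

/-- Dimension at least seven. -/
theorem no_unitary_large (s : H71.Fischer.Step D d) {n k l c e : ℕ} (hn : 7 ≤ n) {ε : ℤ}
    (hε : ε = (-1) ^ n) (hs : IsSRG (qD D d) k l c e)
    (hk : 6 * (k : ℤ) = (2 ^ n - ε) * (2 ^ n + 2 * ε))
    (hl : 24 * (l : ℤ) = (2 ^ n - 4 * ε) * (2 ^ n + 8 * ε)) (he : 4 * (e : ℤ) = l)
    (hce : (c : ℤ) - e = ε * 2 ^ (n - 3) - 2) : False := by
  have hεε : ε = 1 ∨ ε = -1 := hε ▸ neg_one_pow_eq_or ℤ n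
  obtain ⟨p, rfl⟩ : ∃ p, n = p + 4 := ⟨n - 4, by omega⟩
  have hk' := hk
  have hl' := hl
  rw [show p + 4 - 3 = p + 1 by omega] at hce
  simp only [pow_add] at hk' hl' hce
  norm_num at hk' hl' hce
  set P : ℤ := 2 ^ p with hP
  have hP8 : (8 : ℤ) ≤ P := by
    rw [hP]; exact_mod_cast (Nat.pow_le_pow_right two_pos (show 3 ≤ p by omega) : 2 ^ 3 ≤ 2 ^ p)
  have e2 : (2 : ℤ) ^ (p + 4 - 2) = P * 4 := by
    rw [show p + 4 - 2 = p + 2 by omega, pow_add, ← hP]; norm_num
  have e3 : (2 : ℤ) ^ (p + 4 - 3) = P * 2 := by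
    rw [show p + 4 - 3 = p + 1 by omega, pow_add, ← hP]; norm_num
  have hlk : l + 1 < k := by
    have : (l : ℤ) + 1 < k := by rcases hεε with rfl | rfl <;> nlinarith
    exact_mod_cast this
  have hloc := H88.Fischer.local_of_down s.cls s.prim s.mem s.desc hs hlk
  rcases hεε with rfl | rfl
  · obtain ⟨N, μ, q, -, -, hF⟩ := exists_feas hloc (r := 2 ^ (p + 4 - 2) - 1)
      (s := -(2 ^ (p + 4 - 3) + 1)) (by rw [e2, e3]; linarith) (by rw [e2, e3]; linarith)
      (by rw [e2, e3]; linarith)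
    exact hF.no_unitary hn hε hk hl he (Or.inl ⟨rfl, rfl, rfl⟩)
  · obtain ⟨N, μ, q, -, -, hF⟩ := exists_feas hloc (r := 2 ^ (p + 4 - 3) - 1)
      (s := -(2 ^ (p + 4 - 2) + 1)) (by rw [e2, e3]; linarith) (by rw [e2, e3]; linarith)
      (by rw [e2, e3]; linarith)
    exact hF.no_unitary hn hε hk hl he (Or.inr ⟨rfl, rfl, rfl⟩)

end H58.Fischer
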